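import Groth.Prelude.Def_Found
import Mathlib

/-! In a catenary Noetherian local ring, dimension of quotients drops by one along a covering
pair of primes. -/

set_option autoImplicit false
set_option linter.style.haveILetI false
universe u

open IsLocalRing Order

namespace Groth.Agent.Hironaka

variable {A : Type u} [CommRing A] [IsLocalRing A] [IsNoetherianRing A]

theorem coheight_ne_top (q : PrimeSpectrum A) : coheight q ≠ ⊤ := by
  intro h
  have h1 := Order.coheight_le_krullDim q
  rw [h] at h1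
  exact absurd (h1.trans_lt (ringKrullDim_lt_top (R := A))) (lt_irrefl _)

omit [IsLocalRing A] [IsNoetherianRing A] in
theorem cons_saturated {q : PrimeSpectrum A} {r : LTSeries (PrimeSpectrum A)} (h : q < r.head)
    (hq : q ⋖ r.head) (hr : ∀ i : Fin r.length, r (Fin.castSucc i) ⋖ r (Fin.succ i))
    (i : Fin (r.cons q h).length) : (r.cons q h) (Fin.castSucc i) ⋖ (r.cons q h) (Fin.succ i) := by
  obtain ⟨i, hi⟩ := i
  have hi' : i < r.length + 1 := by simpa using hi
  have e : ∀ j : Fin (r.length + 1), (r.cons q h) ⟨j.1 + 1, by simpa using j.2⟩ = r j := fun j => by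
    conv_rhs => rw [← RelSeries.cons_cast_succ r q h j]
    rfl
  cases i with
  | zero =>
    have h1 := e ⟨0, by omega⟩
    exact (congrArg₂ (· ⋖ ·) (RelSeries.head_cons r q h) h1).mpr hq
  | succ i =>
    have h1 := e ⟨i, by omega⟩
    have h2 := e ⟨i + 1, by omega⟩
    exact (congrArg₂ (· ⋖ ·) h1 h2).mpr (hr ⟨i, by omega⟩)

omit [IsNoetherianRing A] in
theorem exists_saturated (n : ℕ) : ∀ q : PrimeSpectrum A, coheight q = n →
    ∃ s : LTSeries (PrimeSpectrum A), s.head = q ∧ s.last = closedPoint A ∧ s.length = n ∧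
      ∀ i : Fin s.length, s (Fin.castSucc i) ⋖ s (Fin.succ i) := by
  induction n with
  | zero =>
    intro q hq
    refine ⟨RelSeries.singleton _ q, rfl, ?_, rfl, fun i => i.elim0⟩
    have hmax : IsMax q := Order.coheight_eq_zero.mp (by exact_mod_cast hq)
    exact le_antisymm (le_maximalIdeal q.2.ne_top) (hmax (le_maximalIdeal q.2.ne_top))
  | succ n ih =>
    intro q hq
    obtain ⟨s, hs, hlen⟩ := exists_series_of_coheight_eq_coe q hq
    have h0 : 0 < s.length := by omega
    let x := s ⟨1, by omega⟩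
    have hqx : q < x := by
      rw [← hs]
      exact s.strictMono (Fin.mk_lt_mk.mpr Nat.zero_lt_one : (⟨0, by omega⟩ : Fin (s.length + 1)) < ⟨1, by omega⟩)
    have hx1 : coheight x + 1 ≤ ((n + 1 : ℕ) : ℕ∞) := hq ▸ coheight_add_one_le hqx
    have hx2 : (n : ℕ∞) ≤ coheight x := by
      refine le_trans ?_ (length_le_coheight (p := s.drop ⟨1, by omega⟩) (by rw [RelSeries.head_drop]))
      simp [hlen]
    have hx : coheight x = n := by
      refine le_antisymm ?_ hx2
      rw [Nat.cast_add, Nat.cast_one] at hx1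
      exact (ENat.add_le_add_iff_right ENat.one_ne_top).mp hx1
    have hcov : q ⋖ x := by
      refine ⟨hqx, fun y hqy hyx => ?_⟩
      have h1 : coheight y + 1 ≤ ((n + 1 : ℕ) : ℕ∞) := hq ▸ coheight_add_one_le hqy
      have h2 := add_le_add_left (coheight_add_one_le hyx) 1
      rw [hx] at h2
      have h3 := h2.trans h1
      norm_cast at h3
      omega
    obtain ⟨r, hr, hrl, hrn, hrs⟩ := ih x hx
    refine ⟨r.cons q (hr ▸ hqx), RelSeries.head_cons _ _ _, ?_, by simp [hrn], ?_⟩
    · rw [RelSeries.last_cons, hrl]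
    · exact cons_saturated _ (hr ▸ hcov) hrs

theorem coheight_eq_add_one (hcat : CAlg.IsCatenary A) {q P : PrimeSpectrum A} (h : q ⋖ P) :
    coheight q = coheight P + 1 := by
  obtain ⟨a, ha⟩ := ENat.ne_top_iff_exists.mp (coheight_ne_top q)
  obtain ⟨b, hb⟩ := ENat.ne_top_iff_exists.mp (coheight_ne_top P)
  obtain ⟨s, hs, hsl, hsn, hss⟩ := exists_saturated a q ha.symm
  obtain ⟨r, hr, hrl, hrn, hrs⟩ := exists_saturated b P hb.symm
  have key := hcat.2 s (r.cons q (hr ▸ h.lt)) (by rw [hs, RelSeries.head_cons])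
    (by rw [hsl, RelSeries.last_cons, hrl]) hss (cons_saturated _ (hr ▸ h) hrs)
  rw [RelSeries.cons_length, hsn, hrn] at key
  rw [← ha, ← hb, key]
  push_cast
  rfl

omit [IsLocalRing A] [IsNoetherianRing A] in
theorem coheight_eq_ringKrullDim_quotient (q : PrimeSpectrum A) :
    (coheight q : WithBot ℕ∞) = ringKrullDim (A ⧸ q.asIdeal) := by
  rw [ringKrullDim_quotient, Order.coheight_eq_krullDim_Ici]
  refine Order.krullDim_eq_of_orderIso (OrderIso.setCongr _ _ ?_)
  ext x
  exact Iff.rfl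

omit [IsLocalRing A] in
/-- A prime minimal over `q + (t)`, with `t ∉ q`, covers `q`. -/
theorem covBy_of_mem_minimalPrimes {q P : PrimeSpectrum A} {t : A} (ht : t ∉ q.asIdeal)
    (hP : P.asIdeal ∈ (q.asIdeal ⊔ Ideal.span {t}).minimalPrimes) : q ⋖ P := by
  have hle : q.asIdeal ≤ P.asIdeal := le_sup_left.trans hP.1.2
  have htP : t ∈ P.asIdeal := hP.1.2 (Ideal.mem_sup_right (Ideal.mem_span_singleton_self t))
  refine ⟨lt_of_le_of_ne hle (fun e => ht (e ▸ htP)), fun y hqy hyP => ?_⟩
  let π := Ideal.Quotient.mk q.asIdeal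
  have hk : ∀ {z : PrimeSpectrum A}, q.asIdeal ≤ z.asIdeal → (z.asIdeal.map π).comap π = z.asIdeal :=
    fun {z} hz => (Ideal.comap_map_of_surjective π Ideal.Quotient.mk_surjective _).trans
      (sup_eq_left.mpr ((Ideal.mk_ker).trans_le hz))
  haveI : (P.asIdeal.map π).IsPrime :=
    Ideal.map_isPrime_of_surjective Ideal.Quotient.mk_surjective (Ideal.mk_ker.trans_le hle)
  haveI : (y.asIdeal.map π).IsPrime :=
    Ideal.map_isPrime_of_surjective Ideal.Quotient.mk_surjective (Ideal.mk_ker.trans_le hqy.le)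
  have h1 : (P.asIdeal.map π).height ≤ 1 := Ideal.map_height_le_one_of_mem_minimalPrimes hP
  have h2 : (⊥ : Ideal (A ⧸ q.asIdeal)) < y.asIdeal.map π := by
    refine bot_lt_iff_ne_bot.mpr fun e => hqy.ne (PrimeSpectrum.ext ?_)
    rw [← hk hqy.le, e, ← RingHom.ker_eq_comap_bot, Ideal.mk_ker]
  have h3 : y.asIdeal.map π < P.asIdeal.map π := by
    refine lt_of_le_of_ne (Ideal.map_mono hyP.le) fun e => hyP.ne (PrimeSpectrum.ext ?_)
    rw [← hk hqy.le, e, hk hle]
  have h4 := Ideal.height_add_one_le_of_lt_of_isPrime h3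
  have h5 := Ideal.height_add_one_le_of_lt_of_isPrime h2
  have h6 : ((⊥ : Ideal (A ⧸ q.asIdeal)).height + 1 + 1) ≤ 1 :=
    ((add_le_add_left h5 1).trans h4).trans h1
  have h7 : (1 : ℕ∞) + 1 ≤ 1 := le_trans (add_le_add_left le_add_self 1) h6
  norm_num at h7

end Groth.Agent.Hironaka
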