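import Mathlib

/-! A Noetherian local domain with `A/tA` an integrally closed domain is integrally closed. -/

set_option autoImplicit false
set_option linter.style.haveILetI false
universe u

open IsLocalRing

namespace Groth.Agent.Hironaka

variable {A : Type u} [CommRing A] [IsDomain A] [IsNoetherianRing A]

theorem exists_eq_pow_mul {t a : A} (ht : ¬ IsUnit t) (ha : a ≠ 0) :
    ∃ (n : ℕ) (e : A), ¬ t ∣ e ∧ a = t ^ n * e :=
  WfDvdMonoid.max_power_factor' ha ht

/-- the successive approximation step. -/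
theorem mem_sup_span_pow [IsLocalRing A] {t : A} (ht : t ∈ maximalIdeal A) (ht0 : t ≠ 0)
    (hprime : (Ideal.span {t}).IsPrime) [IsIntegrallyClosed (A ⧸ Ideal.span {t})]
    {a b : A} (hb : b ≠ 0)
    (step : ∀ c : A, ∃ d' : A, d' ≠ 0 ∧ ∀ n : ℕ, b ^ n ∣ d' * (a - b * c) ^ n) :
    ∀ k : ℕ, a ∈ Ideal.span {b} ⊔ Ideal.span {t ^ k} := by
  have hnu : ¬ IsUnit t := (IsLocalRing.mem_maximalIdeal t).mp ht
  have htp : Prime t := (Ideal.span_singleton_prime ht0).mp hprime
  intro k
  induction k with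
  | zero => simp
  | succ k ih =>
    obtain ⟨u, hu, v, hv, huv⟩ := Submodule.mem_sup.mp ih
    obtain ⟨c, rfl⟩ := Ideal.mem_span_singleton'.mp hu
    obtain ⟨w, rfl⟩ := Ideal.mem_span_singleton'.mp hv
    by_cases hw : w = 0
    · exact huv ▸ Submodule.add_mem_sup hu (by simp [hw])
    obtain ⟨d', hd', hn⟩ := step c
    have hab : a - b * c = w * t ^ k := by rw [← huv]; ring
    obtain ⟨i, e, he, hwe⟩ := exists_eq_pow_mul hnu (mul_ne_zero hw (pow_ne_zero k ht0) : w * t ^ k ≠ 0)
    have hki : k ≤ i := by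
      by_contra hlt
      push Not at hlt
      refine he ?_
      have h1 : t ^ i * e = t ^ i * (t ^ (k - i) * w) := by
        rw [← hwe, ← mul_assoc, ← pow_add, Nat.add_sub_cancel' hlt.le, mul_comm]
      rw [mul_left_cancel₀ (pow_ne_zero i ht0) h1]
      exact Dvd.dvd.mul_right (dvd_pow_self t (Nat.sub_ne_zero_of_lt hlt)) w
    obtain ⟨j, f, hf, hbf⟩ := exists_eq_pow_mul hnu hb
    obtain ⟨l, g, hg, hdg⟩ := exists_eq_pow_mul hnu hd'
    have hji : j ≤ i := by
      by_contra hlt
      push Not at hlt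
      obtain ⟨cn, hcn⟩ := hn (l + 1)
      rw [hab, hwe, hbf, hdg] at hcn
      have h1 : t ^ (l + i * (l + 1)) * (g * e ^ (l + 1)) =
          t ^ (j * (l + 1)) * (f ^ (l + 1) * cn) := by
        rw [show t ^ (l + i * (l + 1)) * (g * e ^ (l + 1)) = t ^ l * g * (t ^ i * e) ^ (l + 1) by ring, hcn]
        ring
      have hle : l + i * (l + 1) + 1 ≤ j * (l + 1) := by nlinarith
      have h2 : t ∣ g * e ^ (l + 1) := by
        obtain ⟨D, hD⟩ := Nat.exists_eq_add_of_le hle
        refine ⟨t ^ D * (f ^ (l + 1) * cn), mul_left_cancel₀ (pow_ne_zero (l + i * (l + 1)) ht0) ?_⟩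
        rw [h1, hD]; ring
      rcases htp.dvd_or_dvd h2 with h3 | h3
      · exact hg h3
      · exact he (htp.dvd_of_dvd_pow h3)
    have hred : ∀ n : ℕ, ∃ hn' : A, g * e ^ n = f ^ n * hn' := by
      intro n
      obtain ⟨cn, hcn⟩ := hn n
      rw [hab, hwe, hbf, hdg] at hcn
      obtain ⟨D, hD⟩ := Nat.exists_eq_add_of_le (show j * n ≤ l + i * n from
        le_trans (Nat.mul_le_mul_right n hji) (Nat.le_add_left _ _))
      have h1 : t ^ D * (g * e ^ n) = f ^ n * cn := by
        refine mul_left_cancel₀ (pow_ne_zero (j * n) ht0) ?_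
        rw [← mul_assoc, ← pow_add, ← hD,
          show t ^ (l + i * n) * (g * e ^ n) = t ^ l * g * (t ^ i * e) ^ n by ring, hcn]
        ring
      obtain ⟨hn', hhn⟩ : t ^ D ∣ cn :=
        htp.pow_dvd_of_dvd_mul_left D (fun hd => hf (htp.dvd_of_dvd_pow hd)) ⟨_, h1.symm⟩
      refine ⟨hn', mul_left_cancel₀ (pow_ne_zero D ht0) ?_⟩
      rw [h1, hhn]; ring
    let π := Ideal.Quotient.mk (Ideal.span {t})
    haveI := hprime
    have hπ : ∀ {z : A}, ¬ t ∣ z → π z ≠ 0 := fun {z} hz hz0 =>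
      hz (Ideal.mem_span_singleton.mp (Ideal.Quotient.eq_zero_iff_mem.mp hz0))
    let L := FractionRing (A ⧸ Ideal.span {t})
    let ι := algebraMap (A ⧸ Ideal.span {t}) L
    have hι : ∀ {z : A}, ¬ t ∣ z → ι (π z) ≠ 0 := fun {z} hz h0 =>
      hπ hz ((map_eq_zero_iff ι (IsFractionRing.injective _ _)).mp h0)
    have hal : IsAlmostIntegral (A ⧸ Ideal.span {t}) (ι (π e) / ι (π f)) := by
      refine ⟨π g, mem_nonZeroDivisors_of_ne_zero (hπ hg), fun n => ?_⟩
      obtain ⟨hn', hhn⟩ := hred n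
      refine ⟨π hn', ?_⟩
      rw [Algebra.smul_def, div_pow, mul_div_assoc', eq_div_iff (pow_ne_zero n (hι hf))]
      simp only [ι, ← map_pow, ← map_mul, hhn, mul_comm]
    obtain ⟨c', hc'⟩ := IsIntegrallyClosed.isIntegral_iff.mp hal.isIntegral
    obtain ⟨c', rfl⟩ := Ideal.Quotient.mk_surjective c'
    have hec : e - f * c' ∈ Ideal.span {t} := by
      rw [← Ideal.Quotient.eq_zero_iff_mem, map_sub, map_mul, sub_eq_zero]
      apply IsFractionRing.injective (A ⧸ Ideal.span {t}) L
      rw [map_mul, hc', mul_div_cancel₀ _ (hι hf)]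
    obtain ⟨r, hr⟩ := Ideal.mem_span_singleton'.mp hec
    have hafin : a = b * (c + t ^ (i - j) * c') + r * t ^ (i + 1) := by
      have hij : t ^ j * t ^ (i - j) = t ^ i := by rw [← pow_add, Nat.add_sub_cancel' hji]
      have hw' : a - b * c = t ^ i * e := hab.trans hwe
      calc a = b * c + (a - b * c) := by ring
        _ = b * c + t ^ i * (f * c' + r * t) := by
          rw [hw', show e = f * c' + r * t by rw [hr]; ring]
        _ = b * c + (t ^ j * t ^ (i - j)) * f * c' + r * t ^ (i + 1) := by rw [hij]; ring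
        _ = _ := by rw [hbf]; ring
    rw [hafin]
    exact Submodule.add_mem_sup (Ideal.mul_mem_right _ _ (Ideal.mem_span_singleton_self b))
      (Ideal.mul_mem_left _ _ (Ideal.mem_span_singleton.mpr (pow_dvd_pow t (Nat.succ_le_succ hki))))

theorem isIntegrallyClosed_of_quotient_span_singleton [IsLocalRing A] {t : A}
    (ht : t ∈ maximalIdeal A) (ht0 : t ≠ 0) (hprime : (Ideal.span {t}).IsPrime)
    [IsIntegrallyClosed (A ⧸ Ideal.span {t})] : IsIntegrallyClosed A := by
  rw [isIntegrallyClosed_iff (FractionRing A)]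
  intro x hx
  obtain ⟨a, b, hb, rfl⟩ := IsFractionRing.div_surjective A x
  have hb0 : b ≠ 0 := nonZeroDivisors.ne_zero hb
  have hb' : algebraMap A (FractionRing A) b ≠ 0 :=
    (map_ne_zero_iff _ (IsFractionRing.injective A _)).mpr hb0
  have key : ∀ c : A, ∃ d' : A, d' ≠ 0 ∧ ∀ n : ℕ, b ^ n ∣ d' * (a - b * c) ^ n := by
    intro c
    obtain ⟨d, hd, hdn⟩ := (hx.sub (isIntegral_algebraMap (x := c))).isAlmostIntegral
    refine ⟨d, nonZeroDivisors.ne_zero hd, fun n => ?_⟩
    obtain ⟨y, hy⟩ := hdn n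
    refine ⟨y, IsFractionRing.injective A (FractionRing A) ?_⟩
    have e : algebraMap A (FractionRing A) a / algebraMap A (FractionRing A) b - algebraMap A _ c =
        algebraMap A (FractionRing A) (a - b * c) / algebraMap A (FractionRing A) b := by
      rw [map_sub, map_mul, sub_div, mul_div_cancel_left₀ _ hb']
    rw [e, Algebra.smul_def, div_pow, mul_div_assoc', eq_div_iff (pow_ne_zero n hb')] at hy
    rw [map_mul, map_mul, map_pow, map_pow, ← hy, mul_comm]
  have hall := mem_sup_span_pow ht ht0 hprime hb0 key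
  have hab : a ∈ Ideal.span {b} := by
    rw [← Ideal.Quotient.eq_zero_iff_mem, ← Submodule.mem_bot A,
      ← Ideal.iInf_pow_smul_eq_bot_of_le_jacobson (R := A) (M := A ⧸ Ideal.span {b}) (I := Ideal.span {t})
        (by rw [Ideal.span_le, Set.singleton_subset_iff]; exact maximalIdeal_le_jacobson _ ht),
      Submodule.mem_iInf]
    intro k
    obtain ⟨u, hu, v, hv, rfl⟩ := Submodule.mem_sup.mp (hall k)
    rw [map_add, Ideal.Quotient.eq_zero_iff_mem.mpr hu, zero_add,
      show Ideal.Quotient.mk (Ideal.span {b}) v = v • (1 : A ⧸ Ideal.span {b}) by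
        rw [Algebra.smul_def, mul_one]; rfl]
    exact Submodule.smul_mem_smul (by rwa [Ideal.span_singleton_pow]) trivial
  obtain ⟨c, hc⟩ := Ideal.mem_span_singleton'.mp hab
  exact ⟨c, by rw [eq_div_iff hb', ← map_mul, hc]⟩

end Groth.Agent.Hironaka
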