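import Groth.Prelude.Def_EGA4b
import Groth.Agent.Lib.Hironaka.NormalLift
import Groth.Agent.Lib.Hironaka.Catenary

/-! Hironaka's lemma. -/

set_option autoImplicit false
set_option linter.style.haveILetI false
universe u

open IsLocalRing

namespace Groth.Agent.Hironaka

variable {A : Type u} [CommRing A]

/-- a Noetherian local ring with maximal ideal generated by a non-zero-divisor is a domain. -/
theorem eq_zero_or_eq_zero_of_maximalIdeal_eq_span {B : Type u} [CommRing B] [IsLocalRing B]
    [IsNoetherianRing B] {t : B} (hm : maximalIdeal B = Ideal.span {t}) (ht : IsSMulRegular B t)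
    {a b : B} (hab : a * b = 0) : a = 0 ∨ b = 0 := by
  have key : ∀ z : B, z ≠ 0 → ∃ (n : ℕ) (u : B), IsUnit u ∧ z = t ^ n * u := by
    intro z hz
    have hex : ∃ n, z ∉ Ideal.span {t ^ (n + 1)} := by
      by_contra hall
      push Not at hall
      apply hz
      rw [← Submodule.mem_bot B, ← Ideal.iInf_pow_eq_bot_of_isLocalRing (maximalIdeal B)
        (maximalIdeal.isMaximal B).ne_top, Ideal.mem_iInf]
      intro n
      cases n with
      | zero => simp
      | succ n => rw [hm, Ideal.span_singleton_pow]; exact hall n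
    classical
    have hn := Nat.find_spec hex
    have hz' : z ∈ Ideal.span {t ^ Nat.find hex} := by
      rcases Nat.eq_zero_or_pos (Nat.find hex) with h | h
      · simp [h]
      · have := Nat.find_min hex (Nat.sub_lt h Nat.one_pos)
        rw [not_not, Nat.sub_add_cancel h] at this
        exact this
    generalize Nat.find hex = m at hn hz'
    obtain ⟨u, huz⟩ := Ideal.mem_span_singleton'.mp hz'
    refine ⟨m, u, IsLocalRing.notMem_maximalIdeal.mp fun hu => hn ?_, by rw [← huz, mul_comm]⟩
    rw [← huz]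
    rw [hm, Ideal.mem_span_singleton'] at hu
    obtain ⟨w, rfl⟩ := hu
    rw [pow_succ']
    exact Ideal.mem_span_singleton'.mpr ⟨w, by ring⟩
  by_contra h
  push Not at h
  obtain ⟨n, u, hu, rfl⟩ := key a h.1
  obtain ⟨m, v, hv, rfl⟩ := key b h.2
  have h1 : t ^ (n + m) * (u * v) = 0 := by rw [← hab]; ring
  have h2 : u * v = 0 := (ht.pow (n + m)) (show t ^ (n + m) • (u * v) = t ^ (n + m) • 0 by
    rw [smul_eq_mul, smul_zero]; exact h1)
  exact (hu.mul hv).ne_zero h2

theorem ringKrullDim_quotient_eq_coheight (q : PrimeSpectrum A) :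
    ringKrullDim (A ⧸ q.asIdeal) = (Order.coheight q : WithBot ℕ∞) :=
  (coheight_eq_ringKrullDim_quotient q).symm

theorem eq_of_le_of_coheight_eq {α : Type*} [PartialOrder α] {a b : α} (h : a ≤ b)
    (e : Order.coheight a = Order.coheight b) (hb : Order.coheight b ≠ ⊤) : a = b :=
  h.lt_or_eq.elim (fun hlt => absurd e (ne_of_gt (Order.coheight_strictAnti hlt hb.lt_top))) id

variable [IsNoetherianRing A] [IsLocalRing A]

theorem isDomain_of_hyp (hcat : CAlg.IsCatenary A) [IsReduced A] (heq : EGA4.IsEquidim A) {t : A}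
    (ht : t ∈ maximalIdeal A) (hreg : t ∈ nonZeroDivisors A)
    (p : Ideal A) [p.IsPrime] (hp : (Ideal.span {t}).minimalPrimes = {p})
    (hgen : maximalIdeal (Localization.AtPrime p) = Ideal.span {algebraMap A (Localization.AtPrime p) t}) :
    IsDomain A := by
  have hpm : p ∈ (Ideal.span {t}).minimalPrimes := by rw [hp]; exact rfl
  have htp : t ∈ p := hpm.1.2 (Ideal.mem_span_singleton_self t)
  let P : PrimeSpectrum A := ⟨p, ‹_›⟩
  have hnot : ∀ q ∈ minimalPrimes A, t ∉ q := fun q hq htq =>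
    (Set.disjoint_left.mp (Ideal.disjoint_nonZeroDivisors_of_mem_minimalPrimes hq) htq) hreg
  obtain ⟨q₀, hq₀, hq₀p⟩ := Ideal.exists_minimalPrimes_le (bot_le : (⊥ : Ideal A) ≤ p)
  have hcov₀ : (⟨q₀, hq₀.isPrime⟩ : PrimeSpectrum A) ⋖ P := by
    refine covBy_of_mem_minimalPrimes (hnot q₀ hq₀) ⟨⟨‹p.IsPrime›, ?_⟩, fun y hy hyp => ?_⟩
    · exact sup_le hq₀p hpm.1.2
    · exact hpm.2 ⟨hy.1, le_sup_right.trans hy.2⟩ hyp
  have hle : ∀ q ∈ minimalPrimes A, q ≤ p := by
    intro q hq
    haveI := hq.isPrime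
    obtain ⟨Q, hQ, -⟩ := Ideal.exists_minimalPrimes_le
      (sup_le (le_maximalIdeal hq.isPrime.ne_top) ((Ideal.span_singleton_le_iff_mem _).mpr ht) :
        q ⊔ Ideal.span {t} ≤ maximalIdeal A)
    haveI := hQ.isPrime
    have hpQ : p ≤ Q := by
      obtain ⟨p', hp', hle'⟩ := Ideal.exists_minimalPrimes_le (le_sup_right.trans hQ.1.2 : Ideal.span {t} ≤ Q)
      rw [hp, Set.mem_singleton_iff] at hp'
      exact hp' ▸ hle'
    have hcov : (⟨q, hq.isPrime⟩ : PrimeSpectrum A) ⋖ ⟨Q, hQ.isPrime⟩ :=
      covBy_of_mem_minimalPrimes (hnot q hq) hQ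
    have h1 := coheight_eq_add_one hcat hcov
    have h2 := coheight_eq_add_one hcat hcov₀
    have h3 : Order.coheight (⟨q, hq.isPrime⟩ : PrimeSpectrum A) =
        Order.coheight (⟨q₀, hq₀.isPrime⟩ : PrimeSpectrum A) := by
      have := (heq q hq).trans (heq q₀ hq₀).symm
      rw [ringKrullDim_quotient_eq_coheight ⟨q, hq.isPrime⟩,
        ringKrullDim_quotient_eq_coheight ⟨q₀, hq₀.isPrime⟩] at this
      exact WithBot.coe_injective this
    rw [h1, h2] at h3
    have h4 : Order.coheight P = Order.coheight (⟨Q, hQ.isPrime⟩ : PrimeSpectrum A) :=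
      le_antisymm ((ENat.add_le_add_iff_right ENat.one_ne_top).mp h3.symm.le)
        ((ENat.add_le_add_iff_right ENat.one_ne_top).mp h3.le)
    have h5 : P = (⟨Q, hQ.isPrime⟩ : PrimeSpectrum A) :=
      eq_of_le_of_coheight_eq (b := (⟨Q, hQ.isPrime⟩ : PrimeSpectrum A)) hpQ h4 (coheight_ne_top _)
    have h6 : q ≤ Q := le_sup_left.trans hQ.1.2
    exact h6.trans (congrArg PrimeSpectrum.asIdeal h5).ge
  -- the localization at `p` is a domain
  have hregp : IsSMulRegular (Localization.AtPrime p) (algebraMap A (Localization.AtPrime p) t) := by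
    refine IsSMulRegular.of_isLocalization _ p.primeCompl (fun a b hab => ?_)
    exact mul_cancel_left_mem_nonZeroDivisors hreg |>.mp hab
  let κ : Ideal A := RingHom.ker (algebraMap A (Localization.AtPrime p))
  have hκprime : κ.IsPrime := by
    refine ⟨fun e => ?_, fun {a b} hab => ?_⟩
    · have : (1 : A) ∈ κ := e ▸ Submodule.mem_top
      rw [RingHom.mem_ker, map_one] at this
      exact one_ne_zero this
    · rw [RingHom.mem_ker, map_mul] at hab
      exact eq_zero_or_eq_zero_of_maximalIdeal_eq_span hgen hregp hab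
  have hκle : ∀ q ∈ minimalPrimes A, κ ≤ q := by
    intro q hq a ha
    rw [RingHom.mem_ker, IsLocalization.map_eq_zero_iff p.primeCompl] at ha
    obtain ⟨⟨s, hs⟩, hsa⟩ := ha
    exact (hq.isPrime.mem_or_mem (hsa ▸ zero_mem q)).resolve_left (fun h => hs (hle q hq h))
  have hκ : κ = ⊥ := by
    refine le_bot_iff.mp ?_
    calc κ ≤ sInf (minimalPrimes A) := le_sInf hκle
      _ = (⊥ : Ideal A).radical := Ideal.sInf_minimalPrimes
      _ = ⊥ := le_bot_iff.mp fun x hx => IsReduced.eq_zero x (by
          obtain ⟨n, hn⟩ := hx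
          exact ⟨n, hn⟩)
  haveI : (⊥ : Ideal A).IsPrime := hκ ▸ hκprime
  exact IsDomain.of_bot_isPrime A

omit [IsNoetherianRing A] [IsLocalRing A] in
theorem heightOneHull_transfer {B : Type u} [CommRing B] [IsDomain A] [IsDomain B] (σ : A ≃+* B)
    (h : EGA4.HeightOneHullFinite B) : EGA4.HeightOneHullFinite A := by
  obtain ⟨S, hS, hfin⟩ := h
  let φ : FractionRing A ≃+* FractionRing B := IsFractionRing.ringEquivOfRingEquiv σ
  have hφ : ∀ a, φ (algebraMap A (FractionRing A) a) = algebraMap B (FractionRing B) (σ a) :=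
    fun a => IsFractionRing.ringEquivOfRingEquiv_algebraMap σ a
  let S' : Subalgebra A (FractionRing A) :=
    { (S.toSubsemiring.comap φ.toRingHom) with
      algebraMap_mem' := fun a => by
        change φ (algebraMap A (FractionRing A) a) ∈ S
        rw [hφ]; exact S.algebraMap_mem _ }
  refine ⟨S', ?_, ?_⟩
  · ext x
    change φ x ∈ (S : Set (FractionRing B)) ↔ _
    rw [hS]
    constructor
    · intro hx q _ hq
      haveI : (q.map σ).IsPrime := Ideal.map_isPrime_of_equiv σ
      obtain ⟨s, hs, a, ha⟩ := hx (q.map σ) (by rw [σ.height_map]; exact hq)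
      refine ⟨σ.symm s, fun h' => hs ?_, σ.symm a, φ.injective ?_⟩
      · rw [← σ.apply_symm_apply s]; exact Ideal.mem_map_of_mem _ h'
      · rw [map_mul, hφ, hφ, σ.apply_symm_apply, σ.apply_symm_apply, ha]
    · intro hx q _ hq
      obtain ⟨s, hs, a, ha⟩ := hx (q.comap σ) (by rw [σ.height_comap]; exact hq)
      refine ⟨σ s, hs, σ a, ?_⟩
      rw [← hφ, ← hφ, ← map_mul, ha]
  · obtain ⟨G, hG⟩ := hfin.fg_top
    classical
    refine ⟨⟨G.image (fun g : S => (⟨φ.symm g, show φ (φ.symm g) ∈ S by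
      rw [φ.apply_symm_apply]; exact g.2⟩ : S')), ?_⟩⟩
    rw [eq_top_iff]
    rintro ⟨x, hx⟩ -
    have hmem : (⟨φ x, hx⟩ : S) ∈ Submodule.span B (G : Set S) := by rw [hG]; trivial
    suffices H : ∀ y : S, y ∈ Submodule.span B (G : Set S) → (⟨φ.symm y, show φ (φ.symm y) ∈ S by
        rw [φ.apply_symm_apply]; exact y.2⟩ : S') ∈
        Submodule.span A ((G.image (fun g : S => (⟨φ.symm g, show φ (φ.symm g) ∈ S by
          rw [φ.apply_symm_apply]; exact g.2⟩ : S'))) : Set S') by
      simpa using H _ hmem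
    intro y hy
    induction hy using Submodule.span_induction with
    | mem y hy => exact Submodule.subset_span (Finset.mem_image_of_mem _ hy)
    | zero => convert Submodule.zero_mem _; simp
    | add y z _ _ hy hz => convert Submodule.add_mem _ hy hz; simp
    | smul b y _ hy =>
      convert Submodule.smul_mem _ (σ.symm b) hy using 1
      ext
      change φ.symm (b • (y : FractionRing B)) = σ.symm b • φ.symm (y : FractionRing B)
      apply φ.injective
      rw [Algebra.smul_def, Algebra.smul_def, φ.apply_symm_apply, map_mul, hφ, φ.apply_symm_apply,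
        σ.apply_symm_apply]

theorem span_eq_and_normal [IsDomain A] (hfin : EGA4.HeightOneHullFinite A)
    {t : A} (ht : t ∈ maximalIdeal A) (ht0 : t ≠ 0)
    (p : Ideal A) [p.IsPrime] (hp : (Ideal.span {t}).minimalPrimes = {p})
    (hgen : maximalIdeal (Localization.AtPrime p) = Ideal.span {algebraMap A (Localization.AtPrime p) t})
    [IsIntegrallyClosed (A ⧸ p)] : p = Ideal.span {t} ∧ IsIntegrallyClosed A := by
  obtain ⟨B, hB, hBfin⟩ := hfin
  have hpm : p ∈ (Ideal.span {t}).minimalPrimes := by rw [hp]; exact rfl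
  have htp : t ∈ p := hpm.1.2 (Ideal.mem_span_singleton_self t)
  have hph : p.height = 1 := by
    refine le_antisymm (Ideal.height_le_one_of_isPrincipal_of_mem_minimalPrimes _ p hpm) ?_
    exact Order.one_le_iff_ne_zero.mpr fun h => ht0 (by
      rw [Ideal.height_eq_zero_iff_eq_bot] at h
      simpa [h] using htp)
  have hloc : ∀ a ∈ p, ∃ s, s ∉ p ∧ ∃ c, s * a = c * t := by
    intro a ha
    have h1 : algebraMap A (Localization.AtPrime p) a ∈ (Ideal.span {t}).map (algebraMap A (Localization.AtPrime p)) := by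
      rw [Ideal.map_span, Set.image_singleton, ← hgen]
      exact (IsLocalization.AtPrime.to_map_mem_maximal_iff _ p a).mpr ha
    rw [IsLocalization.algebraMap_mem_map_algebraMap_iff p.primeCompl] at h1
    obtain ⟨s, hs, hmem⟩ := h1
    obtain ⟨c, hc⟩ := Ideal.mem_span_singleton'.mp hmem
    exact ⟨s, hs, c, hc.symm⟩
  let K := FractionRing A
  have hi : Function.Injective (algebraMap A K) := IsFractionRing.injective A K
  have htK : algebraMap A K t ≠ 0 := (map_ne_zero_iff _ hi).mpr ht0
  -- dividing by `t`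
  have hdiv : ∀ x ∈ B, ∀ s a : A, s ∉ p → a ∈ p → algebraMap A K a = algebraMap A K s * x →
      ∃ y ∈ B, x = algebraMap A K t * y := by
    intro x hx s a hs ha hsa
    refine ⟨x / algebraMap A K t, ?_, by rw [mul_div_cancel₀ _ htK]⟩
    change x / algebraMap A K t ∈ (B : Set K)
    rw [hB]
    intro q _ hq
    by_cases htq : t ∈ q
    · have hpq : p ≤ q := by
        obtain ⟨p', hp', hle'⟩ := Ideal.exists_minimalPrimes_le ((Ideal.span_singleton_le_iff_mem _).mpr htq)
        rw [hp, Set.mem_singleton_iff] at hp'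
        exact hp' ▸ hle'
      have hqp : q = p := by
        by_contra hne
        have hh := Ideal.height_add_one_le_of_lt_of_isPrime (lt_of_le_of_ne hpq (Ne.symm hne))
        rw [hph, hq] at hh
        norm_num at hh
      subst hqp
      obtain ⟨s', hs', c, hc⟩ := hloc a ha
      refine ⟨s' * s, fun h => (‹q.IsPrime›.mem_or_mem h).elim hs' hs, c, ?_⟩
      rw [map_mul, mul_div_assoc', eq_div_iff htK, mul_assoc, ← hsa, ← map_mul, ← map_mul, hc]
    · obtain ⟨s', hs', a', ha'⟩ := (show x ∈ EGA4.heightOneHull A from hB ▸ hx) q hq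
      refine ⟨s' * t, fun h => (‹q.IsPrime›.mem_or_mem h).elim hs' htq, a', ?_⟩
      rw [map_mul, mul_assoc, mul_div_cancel₀ _ htK, ha']
  -- the residue map
  have hS : p.primeCompl ≤ nonZeroDivisors A := p.primeCompl_le_nonZeroDivisors
  let L := Localization.subalgebra.ofField K p.primeCompl hS
  let κ := FractionRing (A ⧸ p)
  haveI : IsLocalization p.primeCompl L := inferInstanceAs (IsLocalization p.primeCompl (Localization.subalgebra.ofField K p.primeCompl hS))
  have hunit : ∀ s : p.primeCompl, IsUnit ((Algebra.ofId A κ) s) := fun s => by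
    refine Ne.isUnit ?_
    change algebraMap A κ s ≠ 0
    rw [IsScalarTower.algebraMap_apply A (A ⧸ p) κ]
    exact (map_ne_zero_iff _ (IsFractionRing.injective _ _)).mpr
      fun h => s.2 (Ideal.Quotient.eq_zero_iff_mem.mp h)
  have hBL : B ≤ L := by
    intro x hx
    obtain ⟨s, hs, a, ha⟩ := (show x ∈ EGA4.heightOneHull A from hB ▸ hx) p hph
    have hsK : algebraMap A K s ≠ 0 := (map_ne_zero_iff _ hi).mpr fun h => hs (h ▸ zero_mem p)
    change x ∈ Localization.subalgebra.ofField K p.primeCompl hS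
    refine ⟨a, s, hs, ?_⟩
    rw [ha, mul_comm (algebraMap A K s) x, mul_assoc, mul_inv_cancel₀ hsK, mul_one]
  let θ : B →ₐ[A] κ := (IsLocalization.liftAlgHom (f := Algebra.ofId A κ) hunit).comp (Subalgebra.inclusion hBL)
  have key : ∀ x ∈ B, ∃ c : A, ∃ y ∈ B, x = algebraMap A K c + algebraMap A K t * y := by
    intro x hx
    have hint : IsIntegral (A ⧸ p) (θ ⟨x, hx⟩) :=
      ((Algebra.IsIntegral.isIntegral (R := A) (⟨x, hx⟩ : B)).map θ).tower_top
    obtain ⟨c, hc⟩ := IsIntegrallyClosed.isIntegral_iff.mp hint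
    obtain ⟨c, rfl⟩ := Ideal.Quotient.mk_surjective c
    obtain ⟨s, hs, a, ha⟩ := (show x ∈ EGA4.heightOneHull A from hB ▸ hx) p hph
    have h1 : algebraMap A B a = algebraMap A B s * ⟨x, hx⟩ := Subtype.ext ha
    have h2 := congrArg θ h1
    rw [map_mul, AlgHom.commutes, AlgHom.commutes, ← hc,
      IsScalarTower.algebraMap_apply A (A ⧸ p) κ, IsScalarTower.algebraMap_apply A (A ⧸ p) κ,
      ← map_mul] at h2
    have h3 : a - s * c ∈ p := by
      rw [← Ideal.Quotient.eq_zero_iff_mem, map_sub, map_mul, sub_eq_zero]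
      exact IsFractionRing.injective (A ⧸ p) κ h2
    obtain ⟨y, hy, hxy⟩ := hdiv (x - algebraMap A K c) (B.sub_mem hx (B.algebraMap_mem c)) s _ hs h3
      (by rw [map_sub, map_mul, ha]; ring)
    exact ⟨c, y, hy, by rw [← hxy]; ring⟩
  have hbot : ∀ x ∈ B, ∃ c : A, algebraMap A K c = x := by
    have h : (⊤ : Submodule A B) ≤ LinearMap.range (Algebra.linearMap A B) := by
      refine Submodule.le_of_le_smul_of_le_jacobson_bot (I := Ideal.span {t}) hBfin.fg_top
        (by rw [Ideal.span_singleton_le_iff_mem]; exact maximalIdeal_le_jacobson _ ht) ?_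
      rintro ⟨x, hx⟩ -
      obtain ⟨c, y, hy, hxy⟩ := key x hx
      rw [show (⟨x, hx⟩ : B) = Algebra.linearMap A B c + t • ⟨y, hy⟩ from Subtype.ext (by
        change x = algebraMap A K c + t • y
        rw [Algebra.smul_def]; exact hxy)]
      exact Submodule.add_mem_sup (LinearMap.mem_range_self _ _)
        (Submodule.smul_mem_smul (Ideal.mem_span_singleton_self t) trivial)
    intro x hx
    obtain ⟨c, hc⟩ := h (x := ⟨x, hx⟩) trivial
    exact ⟨c, congrArg Subtype.val hc⟩
  have hpt : p = Ideal.span {t} := by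
    refine le_antisymm (fun a ha => ?_) ((Ideal.span_singleton_le_iff_mem _).mpr htp)
    obtain ⟨y, hy, hay⟩ := hdiv (algebraMap A K a) (B.algebraMap_mem a) 1 a
      (fun h => ‹p.IsPrime›.ne_top ((Ideal.eq_top_iff_one p).mpr h)) ha (by rw [map_one, one_mul])
    obtain ⟨c, rfl⟩ := hbot y hy
    exact Ideal.mem_span_singleton'.mpr ⟨c, hi (by rw [hay, map_mul]; ring)⟩
  subst hpt
  exact ⟨rfl, isIntegrallyClosed_of_quotient_span_singleton ht ht0 ‹_›⟩

end Groth.Agent.Hironaka
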