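import Groth.Prelude.Def_EGA4b
import Groth.Prelude.Def_CAlg
import Groth.Agent.Lib.Hironaka.Main
import Groth.Agent.Lib.RegLoc.Quotient
import Groth.Agent.Lib.RegLoc.GlobalDim

/-! Lifting reducedness, equidimensionality and `(R_k)` from `A/tA`. -/

set_option autoImplicit false
set_option linter.style.haveILetI false
universe u

open IsLocalRing

namespace Groth.Agent.Hironaka

variable {A : Type u} [CommRing A] [IsNoetherianRing A] [IsLocalRing A]

theorem isReduced_of_quotient {t : A} (ht : t ∈ maximalIdeal A) (hreg : t ∈ nonZeroDivisors A)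
    [IsReduced (A ⧸ Ideal.span {t})] : IsReduced A := by
  have hle : nilradical A ≤ Ideal.span {t} • nilradical A := by
    intro x hx
    have h0 : Ideal.Quotient.mk (Ideal.span {t}) x = 0 :=
      IsReduced.eq_zero _ ((mem_nilradical.mp hx).map (Ideal.Quotient.mk (Ideal.span {t})))
    obtain ⟨y, rfl⟩ := Ideal.mem_span_singleton'.mp (Ideal.Quotient.eq_zero_iff_mem.mp h0)
    obtain ⟨n, hn⟩ := mem_nilradical.mp hx
    have hy : y ∈ nilradical A := mem_nilradical.mpr ⟨n, by
      refine (mul_right_mem_nonZeroDivisors_eq_zero_iff (pow_mem hreg n)).mp ?_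
      rw [← mul_pow]; exact hn⟩
    rw [mul_comm]
    exact Submodule.smul_mem_smul (Ideal.mem_span_singleton_self t) hy
  have hbot : nilradical A = ⊥ := Submodule.eq_bot_of_le_smul_of_le_jacobson_bot _ _
    (IsNoetherian.noetherian _) hle
    (by rw [Ideal.span_le, Set.singleton_subset_iff]; exact maximalIdeal_le_jacobson _ ht)
  exact ⟨fun x hx => by simpa [hbot] using mem_nilradical.mpr hx⟩

omit [IsLocalRing A] [IsNoetherianRing A] in
/-- `P` minimal over `I`: a power of any element of `P` times something outside `P` lies in `I`. -/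
theorem exists_notMem_mul_pow_mem {I P : Ideal A} (hP : P ∈ I.minimalPrimes) {y : A} (hy : y ∈ P) :
    ∃ s, s ∉ P ∧ ∃ n : ℕ, s * y ^ n ∈ I := by
  haveI := hP.isPrime
  by_contra h
  push Not at h
  obtain ⟨J, hJ, hIJ, hdisj⟩ := Ideal.exists_le_prime_disjoint I (P.primeCompl ⊔ Submonoid.powers y) (by
    rw [Set.disjoint_left]
    intro z hz hz'
    obtain ⟨s, hs, _, ⟨n, rfl⟩, rfl⟩ := Submonoid.mem_sup.mp hz'
    exact h s hs n hz)
  have hJP : J ≤ P := fun z hz => by
    by_contra hzP
    exact Set.disjoint_left.mp hdisj hz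
      ((le_sup_left : P.primeCompl ≤ P.primeCompl ⊔ Submonoid.powers y) hzP)
  exact Set.disjoint_left.mp hdisj (hP.2 ⟨hJ, hIJ⟩ hJP hy)
    ((le_sup_right : Submonoid.powers y ≤ P.primeCompl ⊔ Submonoid.powers y) (Submonoid.mem_powers y))

omit [IsLocalRing A] in
theorem exists_annihilating_notMem [IsReduced A] {q : Ideal A} (hq : q ∈ minimalPrimes A) :
    ∃ a, a ∉ q ∧ ∀ z ∈ q, a * z = 0 := by
  classical
  have hfin : (minimalPrimes A).Finite := minimalPrimes.finite_of_isNoetherianRing A
  have hex : ∀ q' ∈ (hfin.toFinset.erase q : Finset (Ideal A)), ∃ c ∈ q', c ∉ q := by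
    intro q' hq'
    rw [Finset.mem_erase, Set.Finite.mem_toFinset] at hq'
    by_contra hc
    push Not at hc
    exact hq'.1 (le_antisymm hc (hq.2 hq'.2.1 hc))
  choose c hc hcq using hex
  refine ⟨∏ q' ∈ (hfin.toFinset.erase q).attach, c q'.1 q'.2, fun h => ?_, fun z hz => ?_⟩
  · obtain ⟨q', -, hq'⟩ := hq.isPrime.prod_mem_iff.mp h
    exact hcq _ _ hq'
  · have : (∏ q' ∈ (hfin.toFinset.erase q).attach, c q'.1 q'.2) * z ∈ sInf (minimalPrimes A) := by
      refine Submodule.mem_sInf.mpr fun q' hq' => ?_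
      by_cases h : q' = q
      · rw [h]; exact Ideal.mul_mem_left _ _ hz
      · have hm : q' ∈ hfin.toFinset.erase q := by
          rw [Finset.mem_erase, Set.Finite.mem_toFinset]; exact ⟨h, hq'⟩
        refine Ideal.mul_mem_right _ _ ?_
        obtain ⟨w, hw⟩ := Finset.dvd_prod_of_mem (fun q'' : {x // x ∈ hfin.toFinset.erase q} => c q''.1 q''.2)
          (Finset.mem_attach _ ⟨q', hm⟩)
        rw [hw]
        exact Ideal.mul_mem_right _ _ (hc q' hm)
    have hnil : (∏ q' ∈ (hfin.toFinset.erase q).attach, c q'.1 q'.2) * z ∈ nilradical A := by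
      change _ ∈ (⊥ : Ideal A).radical
      rw [← Ideal.sInf_minimalPrimes]
      exact this
    exact IsReduced.eq_zero _ (mem_nilradical.mp hnil)

/-- The key step: a prime minimal over `q + (t)` is minimal over `(t)`. -/
theorem mem_minimalPrimes_span_of_minimal_sup [IsReduced A] {t : A}
    (hreg : t ∈ nonZeroDivisors A) [IsReduced (A ⧸ Ideal.span {t})]
    {q P : Ideal A} (hq : q ∈ minimalPrimes A) (hP : P ∈ (q ⊔ Ideal.span {t}).minimalPrimes) :
    P ∈ (Ideal.span {t}).minimalPrimes := by
  classical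
  haveI := hP.isPrime
  have htP : t ∈ P := hP.1.2 (Ideal.mem_sup_right (Ideal.mem_span_singleton_self t))
  by_contra hne
  have hrad : (Ideal.span {t}).radical = Ideal.span {t} := by
    refine le_antisymm (fun x ⟨n, hn⟩ => Ideal.Quotient.eq_zero_iff_mem.mp ?_) Ideal.le_radical
    exact IsReduced.eq_zero _ ⟨n, by rw [← map_pow]; exact Ideal.Quotient.eq_zero_iff_mem.mpr hn⟩
  have hfin : (Ideal.span {t}).minimalPrimes.Finite := Ideal.finite_minimalPrimes_of_isNoetherianRing A _
  -- an element of `P` regular modulo `t`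
  obtain ⟨y, hyP, hy⟩ : ∃ y ∈ P, ∀ b, y * b ∈ Ideal.span {t} → b ∈ Ideal.span {t} := by
    by_contra h
    push Not at h
    have hsub : (P : Set A) ⊆ ⋃ Q ∈ (hfin.toFinset : Set (Ideal A)), (Q : Set A) := by
      intro y hy
      obtain ⟨b, hyb, hb⟩ := h y hy
      rw [← hrad, ← Ideal.sInf_minimalPrimes, Submodule.mem_sInf] at hb
      push Not at hb
      obtain ⟨Q, hQ, hbQ⟩ := hb
      exact Set.mem_biUnion (by simpa using hQ)
        ((hQ.isPrime.mem_or_mem (hQ.1.2 hyb)).resolve_right hbQ)
    obtain ⟨Q, hQ, hPQ⟩ := (Ideal.subset_union_prime ⊥ ⊥ fun Q hQ _ _ =>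
      (hfin.mem_toFinset.mp hQ).isPrime).mp hsub
    have hQ' := hfin.mem_toFinset.mp hQ
    exact hne (le_antisymm hPQ (hQ'.2 ⟨‹P.IsPrime›, by
      rwa [Ideal.span_singleton_le_iff_mem]⟩ hPQ) ▸ hQ')
  obtain ⟨a, haq, ha⟩ := exists_annihilating_notMem hq
  let I : Ideal A := Submodule.annihilator q
  have hmemI : ∀ {z : A}, z ∈ I ↔ ∀ w ∈ q, z * w = 0 := fun {z} => Submodule.mem_annihilator
  -- some element of `I` is nonzero in `(A/tA)_P`
  obtain ⟨z, hz, hzP⟩ : ∃ z ∈ I, ∀ s, s ∉ P → s * z ∉ Ideal.span {t} := by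
    by_contra h
    push Not at h
    obtain ⟨G, hG⟩ := (IsNoetherian.noetherian I : Submodule.FG _)
    choose s hs hsz using fun g : G => h g.1 (hG ▸ Ideal.subset_span g.2)
    let S := ∏ g, s g
    have hS : S ∉ P := fun hm => by
      obtain ⟨g, -, hg⟩ := ‹P.IsPrime›.prod_mem_iff.mp hm
      exact hs g hg
    have hSI : ∀ z ∈ I, S * z ∈ Ideal.span {t} • I := by
      intro z hz
      have h1 : S * z ∈ Ideal.span {t} := by
        rw [← hG] at hz
        induction hz using Submodule.span_induction with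
        | mem g hg =>
          obtain ⟨c, hc⟩ := Finset.dvd_prod_of_mem s (Finset.mem_univ (⟨g, hg⟩ : G))
          rw [show S = s ⟨g, hg⟩ * c from hc, mul_right_comm]
          exact Ideal.mul_mem_right _ _ (hsz ⟨g, hg⟩)
        | zero => simp
        | add u v _ _ hu hv => rw [mul_add]; exact add_mem hu hv
        | smul u v _ hv => rw [smul_eq_mul, mul_left_comm]; exact Ideal.mul_mem_left _ _ hv
      obtain ⟨w, hw⟩ := Ideal.mem_span_singleton'.mp h1
      have hwI : w ∈ I := hmemI.mpr fun v hv => by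
        refine (mul_right_mem_nonZeroDivisors_eq_zero_iff hreg).mp ?_
        rw [mul_right_comm, hw, mul_assoc, hmemI.mp hz v hv, mul_zero]
      rw [← hw, mul_comm]
      exact Submodule.smul_mem_smul (Ideal.mem_span_singleton_self t) hwI
    let φ : Module.End A I := algebraMap A (Module.End A I) S
    have hrange : LinearMap.range φ ≤ Ideal.span {t} • (⊤ : Submodule A I) := by
      rintro _ ⟨⟨z, hz⟩, rfl⟩
      have h2 := hSI z hz
      have h3 : (Ideal.span {t} • (⊤ : Submodule A I)).map I.subtype = Ideal.span {t} • I := by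
        rw [Submodule.map_smul'', Submodule.map_top, Submodule.range_subtype]
      rw [← h3] at h2
      obtain ⟨u, hu, hu'⟩ := h2
      have : φ ⟨z, hz⟩ = u := Subtype.ext (by
        change S * z = (u : A)
        exact hu'.symm)
      rwa [this]
    obtain ⟨p, hpm, -, hcoef, hp0⟩ := LinearMap.exists_monic_and_natDegree_eq_and_coeff_mem_pow_and_aeval_eq_zero A φ _ hrange
    have hev : Polynomial.eval S p * a = 0 := by
      have h2 := LinearMap.congr_fun hp0 ⟨a, hmemI.mpr ha⟩
      rw [Polynomial.aeval_algebraMap_apply_eq_algebraMap_eval] at h2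
      exact congrArg Subtype.val h2
    have hrq : Polynomial.eval S p ∈ q :=
      (hq.isPrime.mem_or_mem (hev ▸ zero_mem q)).resolve_right haq
    have hrP : Polynomial.eval S p ∈ P := (le_sup_left.trans hP.1.2) hrq
    have hdiff : Polynomial.eval S p - S ^ p.natDegree ∈ P := by
      rw [Polynomial.eval_eq_sum_range, Finset.sum_range_succ, hpm.coeff_natDegree, one_mul, add_sub_cancel_right]
      refine sum_mem fun i hi => Ideal.mul_mem_right _ _ ?_
      rw [Finset.mem_range] at hi
      have h4 : Ideal.span {t} ≤ P := (Ideal.span_singleton_le_iff_mem _).mpr htP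
      exact h4 (Ideal.pow_le_self (by omega) (hcoef i))
    exact hS (‹P.IsPrime›.mem_of_pow_mem _ (by simpa using P.sub_mem hrP hdiff))
  obtain ⟨s, hs, n, hsn⟩ := exists_notMem_mul_pow_mem hP hyP
  refine hzP s hs ?_
  have h1 : s * y ^ n * z ∈ Ideal.span {t} := by
    obtain ⟨u, hu, v, hv, huv⟩ := Submodule.mem_sup.mp hsn
    rw [← huv, add_mul, mul_comm u, hmemI.mp hz u hu, zero_add]
    exact Ideal.mul_mem_right _ _ hv
  have : ∀ m : ℕ, y ^ m * (s * z) ∈ Ideal.span {t} → s * z ∈ Ideal.span {t} := by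
    intro m
    induction m with
    | zero => simp
    | succ m ih => exact fun h => ih (hy _ (by rwa [← mul_assoc, ← pow_succ']))
  exact this n (by convert h1 using 1; ring)

omit [IsNoetherianRing A] [IsLocalRing A] in
theorem coheight_quotient {I : Ideal A} (P : PrimeSpectrum A) (h : I ≤ P.asIdeal) :
    (Order.coheight P : WithBot ℕ∞) =
      ringKrullDim ((A ⧸ I) ⧸ P.asIdeal.map (Ideal.Quotient.mk I)) := by
  rw [coheight_eq_ringKrullDim_quotient]
  exact (ringKrullDim_eq_of_ringEquiv (DoubleQuot.quotQuotEquivQuotOfLE h)).symm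

theorem height_add_coheight (hcat : CAlg.IsCatenary A) {d : ℕ∞}
    (hd : ∀ q : PrimeSpectrum A, q.asIdeal ∈ minimalPrimes A → Order.coheight q = d) (n : ℕ) :
    ∀ Q : PrimeSpectrum A, Order.height Q = n → Order.height Q + Order.coheight Q = d := by
  induction n with
  | zero =>
    intro Q hQ
    rw [hQ, Nat.cast_zero, zero_add]
    refine hd Q (Ideal.height_eq_zero_iff.mp ?_)
    rw [PrimeSpectrum.height_eq_orderHeight, hQ, Nat.cast_zero]
  | succ n ih =>
    intro Q hQ
    obtain ⟨s, hs, hlen⟩ := Order.exists_series_of_le_height Q (le_of_eq hQ.symm)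
    have hx : ∃ x, x < Q ∧ (n : ℕ∞) ≤ Order.height x := by
      refine ⟨s ⟨n, by omega⟩, ?_, ?_⟩
      · rw [← hs]
        exact s.strictMono (by rw [Fin.lt_def]; simp [hlen])
      · refine le_trans ?_ (Order.index_le_height s _)
        simp
    obtain ⟨x, hxQ, hxn⟩ := hx
    have hup : ∀ z, z < Q → Order.height z ≤ n := fun z hz => by
      have := Order.height_add_one_le hz
      rw [hQ, Nat.cast_add, Nat.cast_one] at this
      exact (ENat.add_le_add_iff_right ENat.one_ne_top).mp this
    have hx : Order.height x = n := le_antisymm (hup x hxQ) hxn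
    have hcov : x ⋖ Q := ⟨hxQ, fun z hxz hzQ => by
      have h1 := Order.height_add_one_le hxz
      rw [hx] at h1
      have h2 := h1.trans (hup z hzQ)
      norm_cast at h2
      omega⟩
    rw [hQ, ← ih x hx, hx, coheight_eq_add_one hcat hcov, Nat.cast_add, Nat.cast_one]
    ring

omit [IsNoetherianRing A] [IsLocalRing A] in
theorem exists_equiv_quotient_localization {t : A} {P : Ideal A} [P.IsPrime]
    (P' : Ideal (A ⧸ Ideal.span {t})) [P'.IsPrime] (h : P'.comap (Ideal.Quotient.mk (Ideal.span {t})) = P) :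
    Nonempty (Localization.AtPrime P ⧸ Ideal.span {algebraMap A (Localization.AtPrime P) t} ≃+*
      Localization.AtPrime P') := by
  subst h
  exact ⟨(Ideal.quotEquivOfEq (by rw [Ideal.map_span, Set.image_singleton])).trans
    (RegLoc.localizationQuotientEquiv (Ideal.span {t}) P')⟩

omit [IsNoetherianRing A] [IsLocalRing A] in
theorem isRegularLocalRing_of_eq {Q Q' : Ideal A} [Q.IsPrime] [Q'.IsPrime] (h : Q' = Q)
    (hr : IsRegularLocalRing (Localization.AtPrime Q')) : IsRegularLocalRing (Localization.AtPrime Q) := by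
  subst h
  exact hr

theorem reduced_equidim_hasRk {k : ℕ} (hcat : CAlg.IsCatenary A) {t : A}
    (ht : t ∈ maximalIdeal A) (hreg : t ∈ nonZeroDivisors A)
    [IsReduced (A ⧸ Ideal.span {t})] (heq : EGA4.IsEquidim (A ⧸ Ideal.span {t}))
    (hR : LocCoh.HasRk k (A ⧸ Ideal.span {t})) :
    IsReduced A ∧ EGA4.IsEquidim A ∧ LocCoh.HasRk k A := by
  haveI := isReduced_of_quotient ht hreg
  have hmin : ∀ q ∈ minimalPrimes A, t ∉ q := fun q hq htq =>
    (Set.disjoint_left.mp (Ideal.disjoint_nonZeroDivisors_of_mem_minimalPrimes hq) htq) hreg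
  have hkey : ∀ q : PrimeSpectrum A, q.asIdeal ∈ minimalPrimes A →
      (Order.coheight q : WithBot ℕ∞) = ringKrullDim (A ⧸ Ideal.span {t}) + 1 := by
    intro q hq
    obtain ⟨P, hP, -⟩ := Ideal.exists_minimalPrimes_le
      (sup_le (le_maximalIdeal q.2.ne_top) ((Ideal.span_singleton_le_iff_mem _).mpr ht) :
        q.asIdeal ⊔ Ideal.span {t} ≤ maximalIdeal A)
    have hcov := covBy_of_mem_minimalPrimes (P := ⟨P, hP.isPrime⟩) (hmin _ hq) hP
    have hPt := mem_minimalPrimes_span_of_minimal_sup hreg hq hP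
    rw [coheight_eq_add_one hcat hcov, WithBot.coe_add, WithBot.coe_one,
      coheight_quotient (⟨P, hP.isPrime⟩ : PrimeSpectrum A) hPt.1.2]
    congr 1
    refine heq _ ?_
    rw [Ideal.minimalPrimes_eq_comap] at hPt
    obtain ⟨P', hP', rfl⟩ := hPt
    rwa [Ideal.map_comap_of_surjective _ Ideal.Quotient.mk_surjective]
  obtain ⟨q₀, hq₀⟩ := Ideal.exists_minimalPrimes_le (bot_le : (⊥ : Ideal A) ≤ maximalIdeal A)
  let d := Order.coheight (⟨q₀, hq₀.1.isPrime⟩ : PrimeSpectrum A)
  have hd : ∀ q : PrimeSpectrum A, q.asIdeal ∈ minimalPrimes A → Order.coheight q = d := fun q hq =>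
    WithBot.coe_injective ((hkey q hq).trans (hkey ⟨q₀, hq₀.1.isPrime⟩ hq₀.1).symm)
  have hdim : ringKrullDim A = (d : WithBot ℕ∞) := by
    refine le_antisymm ?_ (Order.coheight_le_krullDim _)
    rw [ringKrullDim, Order.krullDim_eq_iSup_coheight]
    refine iSup_le fun x => WithBot.coe_le_coe.mpr ?_
    obtain ⟨q, hq, hqx⟩ := Ideal.exists_minimalPrimes_le (bot_le : (⊥ : Ideal A) ≤ x.asIdeal)
    rw [← hd ⟨q, hq.isPrime⟩ hq]
    exact Order.coheight_anti (show (⟨q, hq.isPrime⟩ : PrimeSpectrum A) ≤ x from hqx)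
  refine ⟨inferInstance, fun q hq => ?_, ?_⟩
  · rw [hdim, ← coheight_eq_ringKrullDim_quotient ⟨q, hq.isPrime⟩, hd ⟨q, hq.isPrime⟩ hq]
  -- the prime containing `t`
  have hcase : ∀ P : Ideal A, ∀ [P.IsPrime], t ∈ P → P.height ≤ (k : ℕ∞) + 1 →
      IsRegularLocalRing (Localization.AtPrime P) := by
    intro P _ htP hh
    have htm : algebraMap A (Localization.AtPrime P) t ∈ maximalIdeal (Localization.AtPrime P) :=
      (IsLocalization.AtPrime.to_map_mem_maximal_iff _ P t).mpr htP
    have htreg : algebraMap A (Localization.AtPrime P) t ∈ nonZeroDivisors (Localization.AtPrime P) :=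
      IsLocalization.map_nonZeroDivisors_le P.primeCompl _ (Submonoid.mem_map_of_mem _ hreg)
    let π := Ideal.Quotient.mk (Ideal.span {t})
    haveI hPp : (P.map π).IsPrime := Ideal.map_isPrime_of_surjective Ideal.Quotient.mk_surjective
      (Ideal.mk_ker.trans_le ((Ideal.span_singleton_le_iff_mem _).mpr htP))
    have hcomap : (P.map π).comap π = P :=
      (Ideal.comap_map_of_surjective π Ideal.Quotient.mk_surjective _).trans
        (sup_eq_left.mpr (Ideal.mk_ker.trans_le ((Ideal.span_singleton_le_iff_mem _).mpr htP)))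
    obtain ⟨e⟩ := exists_equiv_quotient_localization (t := t) (P := P) (P.map π) hcomap
    have hht : (P.map π).height ≤ k := by
      have h1 := ringKrullDim_quotient_span_singleton_succ_eq_ringKrullDim_of_mem_nonZeroDivisors htreg htm
      rw [ringKrullDim_eq_of_ringEquiv e, IsLocalization.AtPrime.ringKrullDim_eq_height (P.map π),
        IsLocalization.AtPrime.ringKrullDim_eq_height P] at h1
      have h4 : (P.map π).height + 1 = P.height := by exact_mod_cast h1
      exact (ENat.add_le_add_iff_right ENat.one_ne_top).mp (h4.trans_le hh)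
    haveI := hR (P.map π) hht
    haveI := IsRegularLocalRing.of_ringEquiv e.symm
    exact RegLoc.of_quotient_span_singleton htm htreg
  intro Q _ hQh
  by_cases htQ : t ∈ Q
  · exact hcase Q htQ (hQh.trans le_self_add)
  obtain ⟨P, hP, -⟩ := Ideal.exists_minimalPrimes_le
    (sup_le (le_maximalIdeal ‹Q.IsPrime›.ne_top) ((Ideal.span_singleton_le_iff_mem _).mpr ht) :
      Q ⊔ Ideal.span {t} ≤ maximalIdeal A)
  haveI := hP.isPrime
  have hcov := covBy_of_mem_minimalPrimes (q := ⟨Q, ‹_›⟩) (P := ⟨P, hP.isPrime⟩) htQ hP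
  have htP : t ∈ P := hP.1.2 (Ideal.mem_sup_right (Ideal.mem_span_singleton_self t))
  have hfin : ∀ x : PrimeSpectrum A, Order.height x + Order.coheight x = d := fun x => by
    obtain ⟨n, hn⟩ := ENat.ne_top_iff_exists.mp
      (show Order.height x ≠ ⊤ by rw [← PrimeSpectrum.height_eq_orderHeight]; exact Ideal.height_ne_top x.2.ne_top)
    exact height_add_coheight hcat hd n x hn.symm
  have hPh : P.height ≤ (k : ℕ∞) + 1 := by
    have h1 := hfin ⟨P, hP.isPrime⟩
    have h2 := hfin ⟨Q, ‹_›⟩
    rw [coheight_eq_add_one hcat hcov, ← h1, ← PrimeSpectrum.height_eq_orderHeight,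
      ← PrimeSpectrum.height_eq_orderHeight, add_comm (Order.coheight _) 1, ← add_assoc] at h2
    have h3 : P.height = Q.height + 1 := le_antisymm
      ((ENat.add_le_add_iff_right (coheight_ne_top _)).mp h2.ge)
      ((ENat.add_le_add_iff_right (coheight_ne_top _)).mp h2.le)
    rw [h3]
    exact add_le_add hQh le_rfl
  haveI := hcase P htP hPh
  have hdisj : Disjoint (P.primeCompl : Set A) (Q : Set A) :=
    Set.disjoint_left.mpr fun x hx hxQ => hx (hcov.le hxQ)
  let Q' := Q.map (algebraMap A (Localization.AtPrime P))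
  haveI : Q'.IsPrime := IsLocalization.isPrime_of_isPrime_disjoint P.primeCompl _ Q ‹_› hdisj
  have hQ' : Q'.comap (algebraMap A (Localization.AtPrime P)) = Q :=
    IsLocalization.comap_map_of_isPrime_disjoint P.primeCompl _ ‹_› hdisj
  haveI := RegLoc.isRegularLocalRing_localization (Localization.AtPrime P) Q'
  exact isRegularLocalRing_of_eq hQ' (IsRegularLocalRing.of_ringEquiv
    (IsLocalization.localizationLocalizationAtPrimeIsoLocalization P.primeCompl Q').symm.toRingEquiv)

end Groth.Agent.Hironaka
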